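import Cfsg.Agent.H900.C7.Lin
import Mathlib.LinearAlgebra.GeneralLinearGroup.AlgEquiv

/-!
# Elements carrying a slot algebra to a slot algebra
-/

set_option autoImplicit false
set_option linter.unusedSectionVars false
set_option linter.unusedSimpArgs false
set_option linter.unusedVariables false

namespace Cfsg.Agent.H900.C7

open QuadraticMap hiding proj
open Cfsg.Agent.LieClassical.OrthCore Cfsg.Agent.LieClassical.OrthTrans
open Cfsg.Agent.H882.Ten Cfsg.Agent.H883.C7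

section cj

variable {F : Type*} [Field F] {V : Type*} [AddCommGroup V] [Module F V]

theorem cj_inv_cj (g : V ≃ₗ[F] V) (a : Module.End F V) : cj g⁻¹ (cj g a) = a := by
  rw [cj_cj, inv_mul_cancel, one_cj]

theorem cj_cj_inv (g : V ≃ₗ[F] V) (a : Module.End F V) : cj g (cj g⁻¹ a) = a := by
  rw [cj_cj, mul_inv_cancel, one_cj]

theorem cj_inj (g : V ≃ₗ[F] V) {a b : Module.End F V} (h : cj g a = cj g b) : a = b := by
  rw [← cj_inv_cj g a, h, cj_inv_cj]

/-- `cj g` as a linear map -/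
def cjL (g : V ≃ₗ[F] V) : Module.End F V →ₗ[F] Module.End F V where
  toFun := cj g
  map_add' := cj_add' g
  map_smul' := cj_smul' g

theorem cjL_apply (g : V ≃ₗ[F] V) (a : Module.End F V) : cjL g a = cj g a := rfl

theorem cj_zero' (g : V ≃ₗ[F] V) : cj g (0 : Module.End F V) = 0 := (cjL g).map_zero

theorem cj_self (g : V ≃ₗ[F] V) : cj g (g : Module.End F V) = g := by
  rw [cj_eq_iff]

theorem cj_toEnd (g h : V ≃ₗ[F] V) : cj g (h : Module.End F V) = ((g * h * g⁻¹ : V ≃ₗ[F] V) : Module.End F V) := rfl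

theorem toEnd_mul (g h : V ≃ₗ[F] V) : ((g * h : V ≃ₗ[F] V) : Module.End F V) = (g : Module.End F V) * h := rfl

theorem toEnd_inv_mul (g : V ≃ₗ[F] V) : ((g⁻¹ : V ≃ₗ[F] V) : Module.End F V) * (g : Module.End F V) = 1 := by
  rw [← toEnd_mul, inv_mul_cancel]; rfl

theorem cj_eq_mul (g : V ≃ₗ[F] V) (a : Module.End F V) :
    cj g a = (g : Module.End F V) * a * ((g⁻¹ : V ≃ₗ[F] V) : Module.End F V) := rfl

theorem comm_cj {g : V ≃ₗ[F] V} {a b : Module.End F V} :
    cj g a * b = b * cj g a ↔ a * cj g⁻¹ b = cj g⁻¹ b * a := by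
  constructor
  · intro h
    have := congrArg (cj g⁻¹) h
    rwa [cj_mul', cj_mul', cj_inv_cj] at this
  · intro h
    have := congrArg (cj g) h
    rwa [cj_mul', cj_mul', cj_cj_inv] at this

end cj

variable {F : Type*} [Field F] {κ : Type*} [Fintype κ] [DecidableEq κ] {ι : Type*} [Fintype ι] [DecidableEq ι]
  {q : QuadraticForm F (κ → F)} {M : Subgroup (((ι → κ) → F) ≃ₗ[F] ((ι → κ) → F))}

theorem carries_iff {g : ((ι → κ) → F) ≃ₗ[F] ((ι → κ) → F)} {i j : ι} :
    Carries g i j ↔ ∀ f : Module.End F (κ → F), ∃ f', cj g (sl i f) = sl j f' := by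
  constructor
  · intro h f
    obtain ⟨f', hf'⟩ := h f
    exact ⟨f', (cj_eq_iff _ _ _).2 (LinearMap.ext fun v => hf' v)⟩
  · intro h f
    obtain ⟨f', hf'⟩ := h f
    exact ⟨f', fun v => LinearMap.congr_fun ((cj_eq_iff _ _ _).1 hf') v⟩

/-- The isomorphism is inner. -/
theorem carries_inner {x : κ → F} (hx : x ≠ 0) {g : ((ι → κ) → F) ≃ₗ[F] ((ι → κ) → F)} {i j : ι}
    (h : Carries g i j) :
    ∃ T : (κ → F) ≃ₗ[F] (κ → F), ∀ f : Module.End F (κ → F), cj g (sl i f) = sl j (cj T f) := by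
  rw [carries_iff] at h
  have hinj : Function.Injective (slA (F := F) (κ := κ) j).toLinearMap := fun f f' hf => sl_inj hx hf
  obtain ⟨ρ, hρ⟩ := (slA (F := F) (κ := κ) j).toLinearMap.exists_leftInverse_of_injective
    (LinearMap.ker_eq_bot.2 hinj)
  have hρ' : ∀ f : Module.End F (κ → F), ρ (sl j f) = f := fun f => LinearMap.congr_fun hρ f
  let θ : Module.End F (κ → F) →ₗ[F] Module.End F (κ → F) :=
    ρ ∘ₗ cjL g ∘ₗ (slA (F := F) (κ := κ) i).toLinearMap
  have hθ : ∀ f, cj g (sl i f) = sl j (θ f) := by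
    intro f
    obtain ⟨f', hf'⟩ := h f
    have : θ f = ρ (cj g (sl i f)) := rfl
    rw [this, hf', hρ']
  let Θ : Module.End F (κ → F) →ₐ[F] Module.End F (κ → F) := AlgHom.ofLinearMap θ
    (sl_inj hx (i := j) (by rw [← hθ, sl_one, cj_one', sl_one]))
    (fun f f' => sl_inj hx (i := j) (by rw [← hθ, sl_mul, cj_mul', hθ, hθ, sl_mul]))
  have hΘinj : Function.Injective Θ := by
    intro f f' hf
    have h1 : sl j (θ f) = sl j (θ f') := congrArg _ hf
    rw [← hθ, ← hθ] at h1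
    exact sl_inj hx (cj_inj g h1)
  have hΘsurj : Function.Surjective Θ := (LinearMap.injective_iff_surjective (f := θ)).1 hΘinj
  obtain ⟨T, hT⟩ := (AlgEquiv.ofBijective Θ ⟨hΘinj, hΘsurj⟩).eq_linearEquivConjAlgEquiv
  refine ⟨T, fun f => ?_⟩
  rw [hθ]
  congr 1
  have h1 := DFunLike.congr_fun hT f
  exact h1

theorem carries_symm {x : κ → F} (hx : x ≠ 0) {g : ((ι → κ) → F) ≃ₗ[F] ((ι → κ) → F)} {i j : ι}
    (h : Carries g i j) : Carries g⁻¹ j i := by
  obtain ⟨T, hT⟩ := carries_inner hx h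
  rw [carries_iff]
  intro f
  refine ⟨cj T⁻¹ f, ?_⟩
  have h1 := hT (cj T⁻¹ f)
  rw [cj_cj_inv] at h1
  rw [← h1, cj_inv_cj]

theorem carries_comp {g g' : ((ι → κ) → F) ≃ₗ[F] ((ι → κ) → F)} {i j l : ι}
    (h : Carries g i j) (h' : Carries g' j l) : Carries (g' * g) i l := by
  rw [carries_iff] at h h' ⊢
  intro f
  obtain ⟨f', hf'⟩ := h f
  obtain ⟨f'', hf''⟩ := h' f'
  exact ⟨f'', by rw [← cj_cj, hf', hf'']⟩

theorem carries_one (i : ι) : Carries (1 : ((ι → κ) → F) ≃ₗ[F] ((ι → κ) → F)) i i := by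
  rw [carries_iff]
  exact fun f => ⟨f, one_cj _⟩

theorem carries_slE (i : ι) (s : (κ → F) ≃ₗ[F] (κ → F)) : Carries (slE (F := F) (κ := κ) i s) i i := by
  rw [carries_iff]
  intro f
  refine ⟨cj s f, ?_⟩
  rw [cj_eq_iff, slE_toEnd, ← sl_mul, ← sl_mul]
  congr 1
  exact toEnd_mul_eq s f

theorem cj_slE (i : ι) (s : (κ → F) ≃ₗ[F] (κ → F)) (f : Module.End F (κ → F)) :
    cj (slE (F := F) (κ := κ) i s) (sl i f) = sl i (cj s f) := by
  rw [cj_eq_iff, slE_toEnd, ← sl_mul, ← sl_mul]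
  congr 1
  exact toEnd_mul_eq s f

/-- rank one operators in a slot -/
theorem sl_smulRight (i : ι) (φ : (κ → F) →ₗ[F] F) (u : κ → F) (v : (ι → κ) → F) :
    sl i (φ.smulRight u) v = ten F κ i (cW (isTen F κ i) φ v) u := by
  have : sl i (φ.smulRight u) = (ten F κ i).flip u ∘ₗ cW (isTen F κ i) φ := by
    refine ext_t (isTen F κ i) fun a w => ?_
    rw [LinearMap.comp_apply, sl_ten, cW_apply, LinearMap.flip_apply, map_smul, LinearMap.smul_apply]
    rw [LinearMap.smulRight_apply, map_smul]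
  exact LinearMap.congr_fun this v

/-- An operator commuting with a slot algebra acts on the rest. -/
theorem exists_rest {x : κ → F} (hx : x ≠ 0) {j : ι} {Z : Module.End F ((ι → κ) → F)}
    (h : ∀ f : Module.End F (κ → F), Z * sl j f = sl j f * Z) :
    ∃ ρ : Module.End F (({l // l ≠ j} → κ) → F), ∀ a u, Z (ten F κ j a u) = ten F κ j (ρ a) u := by
  obtain ⟨φ, hφ⟩ := Module.Projective.exists_dual_ne_zero F hx
  set ψ : (κ → F) →ₗ[F] F := (φ x)⁻¹ • φ with hψ
  have hψx : ψ x = 1 := by rw [hψ, LinearMap.smul_apply, smul_eq_mul, inv_mul_cancel₀ hφ]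
  refine ⟨cW (isTen F κ j) ψ ∘ₗ Z ∘ₗ (ten F κ j).flip x, fun a u => ?_⟩
  have h1 := LinearMap.congr_fun (h (ψ.smulRight u)) (ten F κ j a x)
  rw [Module.End.mul_apply, Module.End.mul_apply, sl_smulRight, sl_smulRight, cW_apply, hψx, one_smul] at h1
  rw [h1]
  rfl

theorem carries_tm {x : κ → F} (hx : x ≠ 0) {g : ((ι → κ) → F) ≃ₗ[F] ((ι → κ) → F)} {j : ι} (h : Carries g j j) :
    ∃ (α : (({l // l ≠ j} → κ) → F) ≃ₗ[F] (({l // l ≠ j} → κ) → F)) (β : (κ → F) ≃ₗ[F] (κ → F)),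
      g = tm (isTen F κ j) α β := by
  obtain ⟨T, hT⟩ := carries_inner hx h
  set m : ((ι → κ) → F) ≃ₗ[F] ((ι → κ) → F) := g * (slE j T)⁻¹ with hm
  have hcomm : ∀ f : Module.End F (κ → F), (m : Module.End F ((ι → κ) → F)) * sl j f = sl j f * m := by
    intro f
    rw [← cj_eq_iff, hm, ← cj_cj]
    have h1 : cj (slE (F := F) (κ := κ) j T)⁻¹ (sl j f) = sl j (cj T⁻¹ f) := by
      rw [← map_inv, cj_slE]
    rw [h1, hT, cj_cj_inv]
  obtain ⟨ρ, hρ⟩ := exists_rest hx hcomm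
  have hinj : Function.Injective ρ := by
    intro a b hab
    have h1 : m (ten F κ j a x) = m (ten F κ j b x) := by
      have e1 := hρ a x
      have e2 := hρ b x
      rw [LinearEquiv.coe_coe] at e1 e2
      rw [e1, e2, hab]
    exact t_left_inj (isTen F κ j) hx (m.injective h1)
  refine ⟨LinearEquiv.ofBijective ρ ⟨hinj, LinearMap.injective_iff_surjective.1 hinj⟩, T, ?_⟩
  have hg : g = m * slE j T := by rw [hm, inv_mul_cancel_right]
  rw [hg]
  refine ext_t' (isTen F κ j) fun a u => ?_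
  rw [tm_apply, LinearEquiv.mul_apply, slE_ten]
  exact hρ a (T u)

/-- the stabiliser of a slot algebra -/
def NN {x : κ → F} (hx : x ≠ 0) (M : Subgroup (((ι → κ) → F) ≃ₗ[F] ((ι → κ) → F))) (j : ι) : Subgroup M where
  carrier := {n | Carries n.1 j j}
  mul_mem' := fun {a b} ha hb => carries_comp (g := b.1) (g' := a.1) hb ha
  one_mem' := carries_one j
  inv_mem' := fun {a} ha => carries_symm hx (g := a.1) ha

theorem mem_NN {x : κ → F} {hx : x ≠ 0} {j : ι} {n : M} : n ∈ NN hx M j ↔ Carries n.1 j j := Iff.rfl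

/-! ### (D) -/

theorem finrank_rest (i j : ι) : Module.finrank F (({l // l ≠ i} → κ) → F) =
    Module.finrank F (({l // l ≠ j} → κ) → F) := by
  rw [Module.finrank_fintype_fun_eq_card, Module.finrank_fintype_fun_eq_card, Fintype.card_fun, Fintype.card_fun,
    Fintype.card_subtype_compl, Fintype.card_subtype_compl, Fintype.card_subtype_eq, Fintype.card_subtype_eq]

/-- If `g` carries a rank one element of slot `i` to an element of slot `j` this also has rank one. -/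
theorem rank_one {x : κ → F} (hx : x ≠ 0) {g : ((ι → κ) → F) ≃ₗ[F] ((ι → κ) → F)} {i j : ι}
    {ψ : (κ → F) →ₗ[F] F} {w : κ → F} (hw0 : w ≠ 0) (hψ : ψ ≠ 0) {f : Module.End F (κ → F)}
    (h : cj g (sl i (ψ.smulRight w)) = sl j f) : ∃ w' : κ → F, w' ≠ 0 ∧ ∃ χ : (κ → F) →ₗ[F] F,
      f = χ.smulRight w' := by
  have hf0 : f ≠ 0 := by
    rintro rfl
    have h1 : sl j (0 : Module.End F (κ → F)) = 0 := map_zero (slA j)
    rw [h1] at h
    have h3 : sl i (ψ.smulRight w) = 0 := cj_inj g (by rw [h, cj_zero'])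
    have h4 := sl_eq_zero hx h3
    apply hψ
    refine LinearMap.ext fun u => ?_
    have h5 := LinearMap.congr_fun h4 u
    rw [LinearMap.smulRight_apply, LinearMap.zero_apply] at h5
    exact (smul_eq_zero.1 h5).resolve_right hw0
  obtain ⟨u₁, hu₁⟩ : ∃ u, f u ≠ 0 := by
    by_contra hcon
    push Not at hcon
    exact hf0 (LinearMap.ext hcon)
  set p := f u₁ with hp
  have key : ∀ u, ∃ c : F, f u = c • p := by
    intro u
    by_contra hcon
    push Not at hcon
    obtain ⟨φ, hφ⟩ := Module.Projective.exists_dual_ne_zero F hw0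
    let Λ : ((({l // l ≠ j} → κ) → F) × (({l // l ≠ j} → κ) → F)) →ₗ[F] (({l // l ≠ i} → κ) → F) :=
      cW (isTen F κ i) φ ∘ₗ ((g⁻¹ : ((ι → κ) → F) ≃ₗ[F] ((ι → κ) → F)) : Module.End F ((ι → κ) → F)) ∘ₗ
        ((ten F κ j).flip p).coprod ((ten F κ j).flip (f u))
    have hΛ : ∀ a b, Λ (a, b) = cW (isTen F κ i) φ (g⁻¹ (ten F κ j a p + ten F κ j b (f u))) := fun a b => rfl
    have himg : ∀ a b, ∃ c, g⁻¹ (ten F κ j a p + ten F κ j b (f u)) = ten F κ i c w := by
      intro a b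
      have h1 : ten F κ j a p + ten F κ j b (f u) = sl j f (ten F κ j a u₁ + ten F κ j b u) := by
        rw [map_add, sl_ten, sl_ten]
      rw [h1, ← h, cj_apply]
      have h2 : ∀ v, g⁻¹ (g v) = v := fun v => LinearEquiv.symm_apply_apply g v
      rw [h2, sl_smulRight]
      exact ⟨_, rfl⟩
    have hinj : Function.Injective Λ := by
      rw [← LinearMap.ker_eq_bot, LinearMap.ker_eq_bot']
      rintro ⟨a, b⟩ hab
      rw [hΛ] at hab
      obtain ⟨c, hc⟩ := himg a b
      rw [hc, cW_apply] at hab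
      have hc0 : c = 0 := (smul_eq_zero.1 hab).resolve_left hφ
      rw [hc0, map_zero, LinearMap.zero_apply] at hc
      have h3 : ten F κ j a p + ten F κ j b (f u) = 0 := g⁻¹.injective (by rw [hc, map_zero])
      -- apply a functional on the slot
      obtain ⟨χ, hχ1, hχ2⟩ := exists_ne_of_ne hcon
      have h4 := congrArg (cW (isTen F κ j) χ) h3
      rw [map_add, cW_apply, cW_apply, hχ1, zero_smul, zero_add, map_zero] at h4
      have hb : b = 0 := (smul_eq_zero.1 h4).resolve_left hχ2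
      rw [hb, map_zero, LinearMap.zero_apply, add_zero] at h3
      have ha : a = 0 := eq_zero_of_t (isTen F κ j) h3 hu₁
      rw [ha, hb]; rfl
    have h5 := LinearMap.finrank_le_finrank_of_injective hinj
    rw [Module.finrank_prod, finrank_rest i j] at h5
    have h6 : 0 < Module.finrank F (({l // l ≠ j} → κ) → F) := by
      rw [Module.finrank_fintype_fun_eq_card]
      obtain ⟨b, -⟩ := Function.ne_iff.1 hx
      exact Fintype.card_pos_iff.2 ⟨fun _ => b⟩
    omega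
  obtain ⟨φ, hφ⟩ := Module.Projective.exists_dual_ne_zero F hu₁
  refine ⟨p, hu₁, (φ p)⁻¹ • (φ ∘ₗ f), LinearMap.ext fun u => ?_⟩
  obtain ⟨c, hc⟩ := key u
  rw [LinearMap.smulRight_apply, LinearMap.smul_apply, LinearMap.comp_apply, hc, map_smul, smul_eq_mul, smul_eq_mul,
    mul_comm c, ← mul_assoc, inv_mul_cancel₀ hφ, one_mul]

theorem om_eq_smulRight (w : κ → F) : om q w = (polarBilin q w).smulRight w := rfl

theorem polarBilin_ne_zero (hq : Nondeg q) {w : κ → F} (hw0 : w ≠ 0) : polarBilin q w ≠ 0 := by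
  intro h
  exact hw0 (hq w fun y => LinearMap.congr_fun h y)

/-- A multiple of `ω_w` in slot `i` going to slot `j`. -/
theorem carries_of_om (hq : Nondeg q) (hD : DProp q M) {g : ((ι → κ) → F) ≃ₗ[F] ((ι → κ) → F)} (hg : g ∈ M)
    {i j : ι} {w : κ → F} (hw0 : w ≠ 0) (hw : q w = 0) {f : Module.End F (κ → F)}
    (h : cj g (sl i (om q w)) = sl j f) : Carries g i j := by
  obtain ⟨w', hw'0, χ, hχ⟩ := rank_one hw0 hw0 (polarBilin_ne_zero hq hw0) h
  obtain ⟨y, hyp⟩ := LieClassical.OrthTrans.exists_hyp hq hw hw0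
  refine hD g hg i j w w' hw0 hw'0 hw fun a => ?_
  have h1 : g (ten F κ i a w) = cj g (sl i (om q w)) (g (ten F κ i a y)) := by
    rw [cj_apply]
    have h2 : g⁻¹ (g (ten F κ i a y)) = ten F κ i a y := LinearEquiv.symm_apply_apply g _
    rw [h2, sl_ten, om_apply, hyp.pair, one_smul]
  rw [h1, h, hχ, sl_smulRight]
  exact ⟨_, rfl⟩

theorem siegel_sub_one_sq {w z : κ → F} (hw : q w = 0) (hz : polar q w z = 0) :
    (((siegel q w z hw hz : (κ → F) ≃ₗ[F] (κ → F)) : Module.End F (κ → F)) - 1) *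
      (((siegel q w z hw hz : (κ → F) ≃ₗ[F] (κ → F)) : Module.End F (κ → F)) - 1) = (-(2 * q z)) • om q w := by
  have h2 : ((siegel q w z hw hz : (κ → F) ≃ₗ[F] (κ → F)) : Module.End F (κ → F)) - 1 = nn q w z - q z • om q w := by
    rw [siegel_eq hw hz]; abel
  rw [h2, mul_sub, sub_mul, sub_mul, nn_sq hw hz, mul_smul_comm, mul_smul_comm, smul_mul_assoc, smul_mul_assoc,
    nn_om hw hz, om_nn hw hz, om_om hw]
  simp

/-- A Siegel element with nonsingular second vector going to slot `j`. -/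
theorem carries_of_siegel (h2 : (2 : F) ≠ 0) (hq : Nondeg q) (hD : DProp q M)
    {g : ((ι → κ) → F) ≃ₗ[F] ((ι → κ) → F)} (hg : g ∈ M)
    {i j : ι} {w y : κ → F} (hw0 : w ≠ 0) (hw : q w = 0) (hy : polar q w y = 0) (hqy : q y ≠ 0)
    {f : Module.End F (κ → F)}
    (h : cj g (sl i (siegel q w y hw hy : (κ → F) ≃ₗ[F] (κ → F))) = sl j f) : Carries g i j := by
  have hc : -(2 * q y) ≠ 0 := neg_ne_zero.2 (mul_ne_zero h2 hqy)
  have h1 : cj g (sl i ((-(2 * q y)) • om q w)) = sl j ((f - 1) * (f - 1)) := by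
    rw [← siegel_sub_one_sq hw hy, sl_mul, cj_mul', sl_sub, cj_sub', h, sl_one, cj_one', sl_mul, sl_sub, sl_one]
  rw [sl_smul, cj_smul'] at h1
  refine carries_of_om hq hD hg hw0 hw (f := (-(2 * q y))⁻¹ • ((f - 1) * (f - 1))) ?_
  rw [sl_smul, ← h1, smul_smul, inv_mul_cancel₀ hc, one_smul]

/-- The version for `nn`. -/
theorem carries_of_nn (h2 : (2 : F) ≠ 0) (hq : Nondeg q) (hD : DProp q M)
    {g : ((ι → κ) → F) ≃ₗ[F] ((ι → κ) → F)} (hg : g ∈ M)
    {i j : ι} {w y : κ → F} (hw0 : w ≠ 0) (hw : q w = 0) (hy : polar q w y = 0) (hqy : q y ≠ 0)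
    {f : Module.End F (κ → F)} (h : cj g (sl i (nn q w y)) = sl j f) : Carries g i j := by
  have hc : -(2 * q y) ≠ 0 := neg_ne_zero.2 (mul_ne_zero h2 hqy)
  have h1 : cj g (sl i ((-(2 * q y)) • om q w)) = sl j (f * f) := by
    rw [← nn_sq hw hy, sl_mul, cj_mul', h, sl_mul]
  rw [sl_smul, cj_smul'] at h1
  refine carries_of_om hq hD hg hw0 hw (f := (-(2 * q y))⁻¹ • (f * f)) ?_
  rw [sl_smul, ← h1, smul_smul, inv_mul_cancel₀ hc, one_smul]

/-- An element of `M` commuting with `ω_w` in slot `i` normalises the slot algebra. -/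
theorem carries_of_comm (hq : Nondeg q) (hD : DProp q M) {g : ((ι → κ) → F) ≃ₗ[F] ((ι → κ) → F)} (hg : g ∈ M)
    {i : ι} {w : κ → F} (hw0 : w ≠ 0) (hw : q w = 0)
    (h : (g : Module.End F ((ι → κ) → F)) * sl i (om q w) = sl i (om q w) * g) : Carries g i i :=
  carries_of_om hq hD hg hw0 hw ((cj_eq_iff _ _ _).2 h)

end Cfsg.Agent.H900.C7
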