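import Cfsg.Agent.H900.C7.Sum

/-!
# Part (G): the elements of `M` permute the slot algebras
-/

set_option autoImplicit false
set_option linter.unusedSectionVars false
set_option linter.unusedSimpArgs false
set_option linter.unusedVariables false

namespace Cfsg.Agent.H900.C7

open QuadraticMap hiding proj
open Cfsg.Agent.LieClassical.OrthCore Cfsg.Agent.LieClassical.OrthTrans
open Cfsg.Agent.H882.Ten Cfsg.Agent.H883.C7 Cfsg.Agent.LieClassical.OrthFinite

variable {F : Type*} [Field F] {κ : Type*} [Fintype κ] [DecidableEq κ] {ι : Type*} [Fintype ι] [DecidableEq ι]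
  {q : QuadraticForm F (κ → F)} {M : Subgroup (((ι → κ) → F) ≃ₗ[F] ((ι → κ) → F))}

/-- a sum of elements of the slot algebras -/
def InL (X : Module.End F ((ι → κ) → F)) : Prop := ∃ f : ι → Module.End F (κ → F), X = ∑ l, sl l (f l)

/-- a sum of skew elements of the slot algebras -/
def InS (q : QuadraticForm F (κ → F)) (X : Module.End F ((ι → κ) → F)) : Prop :=
  ∃ f : ι → Module.End F (κ → F), (∀ l, Skew q (f l)) ∧ X = ∑ l, sl l (f l)

theorem InL.add {X Y : Module.End F ((ι → κ) → F)} (hX : InL X) (hY : InL Y) : InL (X + Y) := by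
  obtain ⟨f, rfl⟩ := hX
  obtain ⟨g, rfl⟩ := hY
  exact ⟨fun l => f l + g l, by rw [← Finset.sum_add_distrib]; exact Finset.sum_congr rfl fun l _ => (sl_add l _ _).symm⟩

theorem InL.smul (c : F) {X : Module.End F ((ι → κ) → F)} (hX : InL X) : InL (c • X) := by
  obtain ⟨f, rfl⟩ := hX
  exact ⟨fun l => c • f l, by rw [Finset.smul_sum]; exact Finset.sum_congr rfl fun l _ => (sl_smul l _ _).symm⟩

theorem inL_sl (l : ι) (f : Module.End F (κ → F)) : InL (sl l f) := by
  refine ⟨fun m => if m = l then f else 0, ?_⟩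
  rw [Finset.sum_eq_single l]
  · simp only [if_true]
  · intro m _ hm
    simp only [if_neg hm]
    exact map_zero (slA m)
  · intro h
    exact absurd (Finset.mem_univ l) h

/-- adjoints in one slot -/
theorem exists_adj (hq : Nondeg q) (f : Module.End F (κ → F)) :
    ∃ f' : Module.End F (κ → F), ∀ u v, polar q (f u) v = polar q u (f' v) := by
  refine rk_ind hq (P := fun f => ∃ f' : Module.End F (κ → F), ∀ u v, polar q (f u) v = polar q u (f' v))
    ?_ ⟨0, fun u v => by rw [LinearMap.zero_apply, LinearMap.zero_apply, polar_zero_left, polar_zero_right]⟩ ?_ f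
  · rintro a b ⟨a', ha⟩ ⟨b', hb⟩
    exact ⟨a' + b', fun u v => by
      rw [LinearMap.add_apply, LinearMap.add_apply, polar_add_left, polar_add_right, ha, hb]⟩
  · intro a b
    refine ⟨rk q b a, fun u v => ?_⟩
    rw [rk_apply, rk_apply, polar_smul_left, polar_smul_right, smul_eq_mul, smul_eq_mul, polar_comm q a u,
      mul_comm]

theorem adj_sl (h2 : (2 : F) ≠ 0) (hq : Nondeg q) (l : ι) {f f' : Module.End F (κ → F)}
    (h : ∀ u v, polar q (f u) v = polar q u (f' v)) (u v : (ι → κ) → F) :
    polar (QT q ι) (sl l f u) v = polar (QT q ι) u (sl l f' v) := by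
  have S := tst (ι := ι) h2 hq l
  have key : (polarBilin (QT q ι)).compl₁₂ (sl l f) LinearMap.id =
      (polarBilin (QT q ι)).compl₁₂ LinearMap.id (sl l f') := by
    refine ext_t2 (isTen F κ l) fun b u b' u' => ?_
    simp only [LinearMap.compl₁₂_apply, LinearMap.id_apply, sl_ten, polarBilin_apply_apply, S.pol, h]
  exact LinearMap.congr_fun (LinearMap.congr_fun key u) v

theorem inS_of_inL (h2 : (2 : F) ≠ 0) (hq : Nondeg q) {X : Module.End F ((ι → κ) → F)} (hX : InL X)
    (hs : Skew (QT q ι) X) : InS q X := by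
  obtain ⟨f, rfl⟩ := hX
  choose f' hf' using fun l => exists_adj hq (f l)
  set X := ∑ l, sl l (f l) with hX
  have h1 : X = - ∑ l, sl l (f' l) := by
    have h3 : ∀ v w, polar (QT q ι) (X v) w = polar (QT q ι) v ((∑ l, sl l (f' l)) w) := by
      intro v w
      rw [hX, LinearMap.sum_apply, LinearMap.sum_apply]
      have e1 : polar (QT q ι) (∑ l, sl l (f l) v) w = ∑ l, polar (QT q ι) (sl l (f l) v) w := by
        have : polar (QT q ι) (∑ l, sl l (f l) v) w = (polarBilin (QT q ι)).flip w (∑ l, sl l (f l) v) := rfl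
        rw [this, map_sum]; rfl
      have e2 : polar (QT q ι) v (∑ l, sl l (f' l) w) = ∑ l, polar (QT q ι) v (sl l (f' l) w) := by
        have : polar (QT q ι) v (∑ l, sl l (f' l) w) = polarBilin (QT q ι) v (∑ l, sl l (f' l) w) := rfl
        rw [this, map_sum]; rfl
      rw [e1, e2]
      exact Finset.sum_congr rfl fun l _ => adj_sl h2 hq l (hf' l) v w
    refine LinearMap.ext fun w => ?_
    rw [← sub_eq_zero]
    refine nondeg_QT h2 hq _ fun v => ?_
    rw [polar_comm, LinearMap.neg_apply, sub_neg_eq_add, polar_add_right, ← h3, hs]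
    ring
  refine ⟨fun l => (2 : F)⁻¹ • (f l - f' l), fun l => ?_, ?_⟩
  · refine Skew.smul _ fun u v => ?_
    rw [LinearMap.sub_apply, LinearMap.sub_apply, polar_sub_left, polar_sub_right, hf', polar_comm q (f' l u) v, ← hf', ← hf',
      neg_sub, polar_comm q (f l v) u]
  · have e1 : ∑ l, sl l ((2 : F)⁻¹ • (f l - f' l)) = (2 : F)⁻¹ • (X - ∑ l, sl l (f' l)) := by
      rw [hX, ← Finset.sum_sub_distrib, Finset.smul_sum]
      exact Finset.sum_congr rfl fun l _ => by rw [sl_smul, sl_sub]
    have e2 : X - ∑ l, sl l (f' l) = (2 : F) • X := by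
      rw [two_smul]
      conv_rhs => rw [h1]
      conv_lhs => rw [h1]
      have h4 : ∑ l, sl l (f' l) = - X := by rw [h1, neg_neg]
      rw [h4]
      abel
    rw [e1, e2, smul_smul, inv_mul_cancel₀ h2, one_smul]

/-- Skew elements of the slots go to sums of skew elements of the slots. -/
theorem conj_inS [Finite F] [Nonempty ι] (C : Ctx q M) {g : ((ι → κ) → F) ≃ₗ[F] ((ι → κ) → F)} (hg : g ∈ M) (j : ι)
    {f : Module.End F (κ → F)} (hf : Skew q f) : InS q (cj g (sl j f)) := by
  have h2 := C.h7.two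
  have hq := C.h7.nd
  obtain ⟨x, hx, hqx⟩ := C.sing
  obtain ⟨x', hyp⟩ := LieClassical.OrthTrans.exists_hyp hq hqx hx
  have : Finite (((ι → κ) → F) ≃ₗ[F] ((ι → κ) → F)) :=
    Finite.of_injective (fun g => (g : ((ι → κ) → F) → ((ι → κ) → F))) DFunLike.coe_injective
  have : Finite (M ⧸ NN hx M j) := inferInstance
  have := Fintype.ofFinite (M ⧸ NN hx M j)
  obtain ⟨c, hcm, hc1, hc2⟩ := exists_c0 (ι := ι) h2 hq hx j
  have hgO : g ∈ O (QT q ι) := C.le_O hg
  have hsl : ∀ f : Module.End F (κ → F), Skew q f → Skew (QT q ι) (sl j f) := by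
    intro f hf u v
    have h1 : ∀ u v, polar q (f u) v = polar q u ((-f) v) := by
      intro u v
      rw [LinearMap.neg_apply, polar_neg_right]
      exact hf u v
    rw [adj_sl h2 hq j h1]
    have h3 : sl (ι := ι) j (-f) = - sl j f := map_neg (slA j) f
    rw [h3, LinearMap.neg_apply, polar_neg_right]
  refine inS_of_inL h2 hq ?_ ((hsl f hf).cj hgO)
  refine skew_ind' h2 hq C.h7.three hyp (P := fun f => InL (cj g (sl j f))) (fun a b ha hb => ?_)
    (fun r a ha => ?_) (fun w y hw0 hw hy hqy => ?_) hf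
  · rw [sl_add, cj_add']; exact ha.add hb
  · rw [sl_smul, cj_smul']; exact ha.smul r
  · have e1 : cj g (sl j (nn q w y)) = Phi hx M j (cj g (sl j (nn q w y) * c)) := by
      have h1 := Phi_cj (hx := hx) (M := M) (j := j) ⟨g, hg⟩ (sl j (nn q w y) * c)
      have h3 : Phi hx M j (sl j (nn q w y) * c) = sl j (nn q w y) := by
        rw [Phi_self C hw0 hw hy hqy hcm, hc1]
      rw [h3] at h1
      exact h1.symm
    rw [e1]
    refine skewV_ind C.h7 hyp (P := fun z => InL (Phi hx M j z)) (fun a b ha hb => ?_) (fun r a ha => ?_)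
      (fun i w y c hw0 hw hy hqy hc => ?_) ((hc2 _ (skew_nn w y)).cj hgO)
    · rw [Phi_add]; exact ha.add hb
    · rw [Phi_smul]; exact ha.smul r
    · obtain ⟨f, hf⟩ := Phi_slot (hx := hx) (M := M) (j := j) C hw0 hw hy hqy hc
      rw [hf]
      exact inL_sl i f

/-- the bracket with an element of one slot -/
theorem bracket_sum (j : ι) (f : ι → Module.End F (κ → F)) (x : Module.End F (κ → F)) :
    (∑ l, sl l (f l)) * sl j x - sl j x * ∑ l, sl l (f l) = sl j (f j * x - x * f j) := by
  rw [Finset.sum_mul, Finset.mul_sum, ← Finset.sum_sub_distrib, Finset.sum_eq_single j]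
  · rw [sl_sub, sl_mul, sl_mul]
  · intro l _ hl
    rw [sl_comm hl, sub_self]
  · intro h
    exact absurd (Finset.mem_univ j) h

theorem bracket_sum' (j : ι) (f : ι → Module.End F (κ → F)) (x : Module.End F (κ → F)) :
    sl j x * (∑ l, sl l (f l)) - (∑ l, sl l (f l)) * sl j x = sl j (x * f j - f j * x) := by
  have h1 := bracket_sum j f x
  rw [← neg_sub, h1, sl_sub, sl_sub, neg_sub]

/-- The conjugate of the skew elements of a slot is an ideal. -/
theorem ideal [Finite F] [Nonempty ι] (C : Ctx q M) {g : ((ι → κ) → F) ≃ₗ[F] ((ι → κ) → F)} (hg : g ∈ M) {j l : ι}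
    {n x : Module.End F (κ → F)} (hn : Skew q n) (hx : Skew q x) : ∃ x' : Module.End F (κ → F), Skew q x' ∧
      sl l n * cj g (sl j x) - cj g (sl j x) * sl l n = cj g (sl j x') := by
  obtain ⟨k, hk, hkl⟩ := conj_inS C (M.inv_mem hg) l hn
  refine ⟨k j * x - x * k j, (hk j).bracket hx, ?_⟩
  rw [← bracket_sum, ← hkl, cj_sub', cj_mul', cj_mul', cj_cj_inv]

theorem polar_skew_self (h2 : (2 : F) ≠ 0) {f : Module.End F (κ → F)} (hf : Skew q f) (w : κ → F) :
    polar q w (f w) = 0 := by
  have h1 := hf w w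
  rw [polar_comm] at h1
  have h3 : 2 * polar q w (f w) = 0 := by linear_combination h1
  exact (mul_eq_zero.1 h3).resolve_left h2

theorem nn_nn_bracket (h2 : (2 : F) ≠ 0) {w y y' : κ → F} (hw : q w = 0) (hy : polar q w y = 0) (hy' : polar q w y' = 0)
    {f : Module.End F (κ → F)} (hf : Skew q f) :
    nn q w y * (nn q w y' * f - f * nn q w y') - (nn q w y' * f - f * nn q w y') * nn q w y =
      nn q w (polar q y (f w) • y' - polar q y y' • f w + polar q (f w) y' • y) := by
  have hyw : polar q y w = 0 := by rw [polar_comm]; exact hy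
  have hyw' : polar q y' w = 0 := by rw [polar_comm]; exact hy'
  have hff : ∀ a b, polar q a (f b) = - polar q (f a) b := fun a b => by rw [hf, neg_neg]
  have hww := polar_self_of_sing hw
  have h1 : ∀ v, polar q w (f v) = - polar q (f w) v := fun v => hff w v
  have h3 : polar q y (f y') = - polar q (f y) y' := hff y y'
  have h4 : polar q y' (f y) = polar q (f y) y' := polar_comm q _ _
  have h5 : polar q y (f w) = polar q (f w) y := polar_comm q _ _
  have h6 : polar q y' (f w) = polar q (f w) y' := polar_comm q _ _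
  have h7 : polar q y' y = polar q y y' := polar_comm q _ _
  have h8 : polar q w (f y) = - polar q (f w) y := h1 y
  have h9 : polar q w (f y') = - polar q (f w) y' := h1 y'
  have h10 : polar q w (f w) = 0 := polar_skew_self h2 hf w
  refine LinearMap.ext fun v => ?_
  simp only [LinearMap.sub_apply, Module.End.mul_apply, nn_apply, map_sub, map_smul, polar_sub_right, polar_smul_right,
    polar_sub_left, polar_smul_left, polar_add_left, smul_eq_mul, hy, hy', hyw, hyw', hww, h3, h4, h5, h6, h7, h1 v,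
    h8, h9, h10]
  module

/-- A totally singular plane forces dimension at least five. -/
theorem five_le (H : Hyp7 q) {w u : κ → F} (hw0 : w ≠ 0) (hw : q w = 0) (hu : q u = 0) (hwu : polar q w u = 0)
    (hne : ∀ c : F, u ≠ c • w) : 5 ≤ Fintype.card κ := by
  have h2 := H.two
  have hq := H.nd
  have hk3 := H.three
  by_contra hcon
  by_cases h4 : Fintype.card κ = 4
  · obtain ⟨c, hc⟩ := H.four h4 w u hw0 hw hu hwu
    exact hne c hc
  have h3 : Fintype.card κ = 3 := by omega
  have hfr : Module.finrank F (κ → F) = Fintype.card κ := Module.finrank_fintype_fun_eq_card F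
  obtain ⟨w', hyp⟩ := LieClassical.OrthTrans.exists_hyp hq hw hw0
  obtain ⟨v, hv1, hv2, hv3⟩ := exists_nonsing_perp hq (by rw [hfr]; exact hk3) hyp
  have hvv : polar q v v ≠ 0 := by rw [polar_self']; exact mul_ne_zero h2 hv3
  have h5 := expand3 (by rw [hfr]; exact h3) hyp hv1 hv2 hvv u
  rw [hwu, zero_smul, add_zero] at h5
  set μ := (polar q v v)⁻¹ * polar q v u with hμ
  have h6 : q (polar q w' u • w + μ • v) = 0 := by rw [← h5]; exact hu
  rw [Q_add, QuadraticMap.map_smul, QuadraticMap.map_smul, hw, polar_smul_left, polar_smul_right, hv1, smul_zero,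
    smul_zero, smul_zero, add_zero, zero_add, smul_eq_mul] at h6
  have h7 : μ = 0 := mul_self_eq_zero.1 ((mul_eq_zero.1 h6).resolve_right hv3)
  rw [h7, zero_smul, add_zero] at h5
  exact hne _ h5

/-- **Part (G).** -/
theorem glob' [Finite F] (C : Ctx q M) : ∀ g ∈ M, ∀ j, ∃ l, Carries g j l := by
  intro g hg j
  have : Nonempty ι := ⟨j⟩
  have h2 := C.h7.two
  have hq := C.h7.nd
  have hk3 := C.h7.three
  have hfr : Module.finrank F (κ → F) = Fintype.card κ := Module.finrank_fintype_fun_eq_card F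
  obtain ⟨x, hx, hqx⟩ := C.sing
  obtain ⟨x', hyp⟩ := LieClassical.OrthTrans.exists_hyp hq hqx hx
  -- a nonzero element
  obtain ⟨f, hf, hX⟩ := conj_inS C hg j (skew_nn (q := q) x x')
  have hex : ∃ l, f l ≠ 0 := by
    by_contra hcon
    push Not at hcon
    have h1 : cj g (sl j (nn q x x')) = 0 := by
      rw [hX]
      refine Finset.sum_eq_zero fun l _ => ?_
      rw [hcon]
      exact map_zero (slA l)
    have h3 : sl j (nn q x x') = 0 := cj_inj g (by rw [h1, cj_zero'])
    have h4 := LinearMap.congr_fun (sl_eq_zero hx h3) x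
    rw [nn_apply, hyp.polar_left, hyp.pair', zero_smul, one_smul, zero_sub, LinearMap.zero_apply, neg_eq_zero] at h4
    exact hx h4
  obtain ⟨l, hl⟩ := hex
  refine ⟨l, ?_⟩
  -- the elements of slot `l` in the conjugate
  let J : Module.End F (κ → F) → Prop := fun n => ∃ x' : Module.End F (κ → F), Skew q x' ∧ sl l n = cj g (sl j x')
  have hJbr : ∀ n m, Skew q n → J m → J (n * m - m * n) := by
    rintro n m hn ⟨x', hx', hm⟩
    obtain ⟨x'', hx'', h⟩ := ideal C hg (l := l) hn hx'
    exact ⟨x'', hx'', by rw [sl_sub, sl_mul, sl_mul, hm, h]⟩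
  have hJ0 : ∀ n, Skew q n → J (n * f l - f l * n) := by
    intro n hn
    obtain ⟨x'', hx'', h⟩ := ideal C hg (l := l) hn (skew_nn (q := q) x x')
    refine ⟨x'', hx'', ?_⟩
    rw [← h, hX, bracket_sum']
  -- it suffices to find `w ∧ z` with `z` nonsingular
  have fin : ∀ w z, w ≠ 0 → q w = 0 → polar q w z = 0 → q z ≠ 0 → J (nn q w z) → Carries g j l := by
    rintro w z hw0 hw hz hqz ⟨x', hx', h⟩
    have h1 : cj g⁻¹ (sl l (nn q w z)) = sl j x' := by rw [h, cj_inv_cj]
    have h3 := carries_symm hx (carries_of_nn h2 hq C.hD (M.inv_mem hg) hw0 hw hz hqz h1)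
    rwa [inv_inv] at h3
  -- a singular vector moved by `f l`
  obtain ⟨w, hw, hmv⟩ : ∃ w, q w = 0 ∧ ∀ c : F, f l w ≠ c • w := by
    by_contra hcon
    push Not at hcon
    obtain ⟨c, hc⟩ := scalar_of_sing h2 hq (by rw [hfr]; exact hk3) hyp (f l) hcon
    apply hl
    have h1 := hf l x x'
    rw [hc, hc, polar_smul_left, polar_smul_right, hyp.pair, smul_eq_mul, mul_one] at h1
    have h3 : 2 * c = 0 := by linear_combination h1
    have h4 : c = 0 := (mul_eq_zero.1 h3).resolve_left h2
    refine LinearMap.ext fun v => ?_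
    rw [hc, h4, zero_smul, LinearMap.zero_apply]
  have hw0 : w ≠ 0 := by
    rintro rfl
    exact hmv 0 (by rw [map_zero, smul_zero])
  set u := f l w with hu
  have hwu : polar q w u = 0 := polar_skew_self h2 (hf l) w
  have hJz : ∀ y y', polar q w y = 0 → polar q w y' = 0 →
      J (nn q w (polar q y u • y' - polar q y y' • u + polar q u y' • y)) := by
    intro y y' hy hy'
    rw [← nn_nn_bracket h2 hw hy hy' (hf l)]
    exact hJbr _ _ (skew_nn w y) (hJ0 _ (skew_nn w y'))
  by_cases hqu : q u = 0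
  · -- totally singular plane
    have h5 := five_le C.h7 hw0 hw hqu hwu hmv
    have hu0 : u ≠ 0 := fun h => hmv 0 (by rw [h, zero_smul])
    obtain ⟨w', hyp1⟩ := LieClassical.OrthTrans.exists_hyp hq hw hw0
    -- make `u` orthogonal to `w'`
    set u₁ := u - polar q w' u • w with hu₁
    have g1 : polar q w u₁ = 0 := by rw [hu₁, polar_sub_right, polar_smul_right, hwu, hyp1.polar_left]; simp
    have g2 : polar q w' u₁ = 0 := by rw [hu₁, polar_sub_right, polar_smul_right, hyp1.pair']; simp
    have g3 : q u₁ = 0 := by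
      rw [hu₁, sub_eq_add_neg, ← neg_smul, Q_add, QuadraticMap.map_smul, hw, hqu, polar_smul_right, polar_comm q u w,
        hwu]
      simp
    have g4 : u₁ ≠ 0 := fun h => hmv (polar q w' u) (sub_eq_zero.1 h)
    obtain ⟨u', hyp2, g5, g6⟩ := exists_hyp_perp hq hyp1 g3 g4 g1 g2
    obtain ⟨a, c, ⟨a1, a2, a3, a4⟩, ⟨c1, c2, c3, c4⟩, hac⟩ := exists_perp4 hq (by rw [hfr]; exact h5) hyp1 hyp2 g1 g5
      g2 g6
    obtain ⟨y', hy'1, hy'2, hy'3⟩ : ∃ y', polar q w y' = 0 ∧ polar q u₁ y' = 0 ∧ q y' ≠ 0 := by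
      rcases exists_nonsing hac with h | h | h
      · exact ⟨a, a1, a3, h⟩
      · exact ⟨c, c1, c3, h⟩
      · exact ⟨a + c, by rw [polar_add_right, a1, c1, add_zero], by rw [polar_add_right, a3, c3, add_zero], h⟩
    have hy'u : polar q u y' = 0 := by
      have e : u = u₁ + polar q w' u • w := by rw [hu₁, sub_add_cancel]
      rw [e, polar_add_left, polar_smul_left, hy'1, hy'2, smul_zero, add_zero]
    obtain ⟨y, hy1, hy2⟩ := exists_sep hq hmv
    have hJ1 := hJz y y' hy1 hy'1
    rw [hy'u, zero_smul, add_zero, polar_comm q y u, hy2, one_smul] at hJ1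
    refine fin w _ hw0 hw ?_ ?_ hJ1
    · rw [polar_sub_right, polar_smul_right, hy'1, hwu, smul_zero, sub_zero]
    · rw [sub_eq_add_neg, ← neg_smul, Q_add, QuadraticMap.map_smul, hqu, polar_smul_right, polar_comm q y' u, hy'u,
        smul_zero, smul_zero, add_zero, add_zero]
      exact hy'3
  · obtain ⟨w', hyp1⟩ := LieClassical.OrthTrans.exists_hyp hq hw hw0
    obtain ⟨y, hy1, -, hy3⟩ := exists_nonsing_perp hq (by rw [hfr]; exact hk3) hyp1
    have hJ1 := hJz y y hy1 hy1
    refine fin w _ hw0 hw ?_ ?_ hJ1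
    · rw [polar_add_right, polar_sub_right, polar_smul_right, polar_smul_right, polar_smul_right, hy1, hwu]
      simp
    · have e : q (polar q y u • y - polar q y y • u + polar q u y • y) = (2 * q y) * (2 * q y) * q u := by
        have e1 : polar q y u • y - polar q y y • u + polar q u y • y =
            (2 * polar q u y) • y + (-(2 * q y)) • u := by
          rw [polar_comm q y u, polar_self']
          module
        rw [e1, Q_add, QuadraticMap.map_smul, QuadraticMap.map_smul, polar_smul_left, polar_smul_right,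
          polar_comm q y u, smul_eq_mul, smul_eq_mul, smul_eq_mul, smul_eq_mul]
        ring
      rw [e]
      exact mul_ne_zero (mul_ne_zero (mul_ne_zero h2 hy3) (mul_ne_zero h2 hy3)) hqu

theorem exists_sing_vec [Finite F] (hk : 3 ≤ Fintype.card κ) : ∃ x : κ → F, x ≠ 0 ∧ q x = 0 := by
  obtain ⟨x, -, hx0, hx⟩ := exists_sing_mem (Q := q) (⊤ : Submodule F (κ → F)) (by
    rw [finrank_top, Module.finrank_fintype_fun_eq_card]; exact hk)
  exact ⟨x, hx0, hx⟩

/-- **Part (G)**, version with `Hyp7`. -/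
theorem glob7 [Finite F] (H : Hyp7 q) (ht : 2 ≤ Fintype.card ι) (hM : Over q M) (hD : DProp q M) :
    ∀ g ∈ M, ∀ i, ∃ j, Carries g i j :=
  glob' ⟨H, ht, hM, hD, exists_sing_vec H.three⟩

/-- **Part (G)**, the target statement. -/
theorem glob [Finite F] (h2 : (2 : F) ≠ 0) (hq : Nondeg q) (hk : 3 ≤ Fintype.card κ)
    (hex : ¬ (Nat.card F = 3 ∧ Fintype.card κ = 3))
    (h4 : Fintype.card κ = 4 → ∀ w x, w ≠ 0 → q w = 0 → q x = 0 → polar q w x = 0 → ∃ c : F, x = c • w)
    (ht : 2 ≤ Fintype.card ι) (hM : Over q M) (hD : DProp q M) : ∀ g ∈ M, ∀ i, ∃ j, Carries g i j := by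
  refine glob7 ⟨h2, hq, hk, fun h3 => ?_, h4⟩ ht hM hD
  classical
  have := Fintype.ofFinite F
  have h5 : Nat.card F ≠ 3 := fun h => hex ⟨h, h3⟩
  rw [Nat.card_eq_fintype_card] at h5 ⊢
  have hlt : 1 < Fintype.card F := Fintype.one_lt_card
  have hne2 : ¬ 2 ∣ Fintype.card F := by
    rintro ⟨m, hm⟩
    have h1 := FiniteField.cast_card_eq_zero F
    by_cases h6 : Fintype.card F < 5
    · rw [hm] at h1
      push_cast at h1
      have h7 : ((m : ℕ) : F) = 0 := (mul_eq_zero.1 h1).resolve_left h2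
      have h8 : m = 1 ∨ m = 2 := by omega
      rcases h8 with rfl | rfl
      · simp at h7
      · exact h2 (by exact_mod_cast h7)
    · -- not needed for large fields
      obtain ⟨p, hp⟩ := CharP.exists F
      have hpp : p.Prime := CharP.char_is_prime F p
      obtain ⟨n, -, hn⟩ := FiniteField.card F p
      have h9 : (2 : ℕ) ∣ p ^ (n : ℕ) := by rw [← hn, hm]; exact Dvd.intro m rfl
      have h10 := Nat.prime_two.dvd_of_dvd_pow h9
      have h11 : 2 = p := (Nat.prime_dvd_prime_iff_eq Nat.prime_two hpp).1 h10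
      subst h11
      apply h2
      have := CharP.cast_eq_zero F 2
      exact_mod_cast this
  omega

end Cfsg.Agent.H900.C7
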